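import Mathlib

/-!
# Fibrewise injective maps into free modules split near the point (helper3, for S14618)
-/

set_option autoImplicit false
universe u
open TensorProduct

namespace Groth.Agent.H3.LocSplit

section Alg
variable {A : Type u} [CommRing A] {M : Type u} [AddCommGroup M] [Module A M]

/-- injectivity after tensoring descends along a field extension `k → K` of `A`-algebras. -/
theorem lTensor_injective_of_field_ext {N : Type u} [AddCommGroup N] [Module A N]
    (φ : M →ₗ[A] N) (k K : Type u) [Field k] [Field K] [Algebra A k] [Algebra A K] [Algebra k K]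
    [IsScalarTower A k K] (h : Function.Injective (φ.lTensor K)) :
    Function.Injective (φ.lTensor k) := by
  let ι : k →ₗ[k] K := Algebra.linearMap k K
  have hι : Function.Injective ι := (algebraMap k K).injective
  obtain ⟨π, hπ⟩ := ι.exists_leftInverse_of_injective (LinearMap.ker_eq_bot.mpr hι)
  let ιA : k →ₗ[A] K := ι.restrictScalars A
  let πA : K →ₗ[A] k := π.restrictScalars A
  have hπι : πA ∘ₗ ιA = LinearMap.id := by
    ext x; exact LinearMap.congr_fun hπ x
  intro z z' hz
  have h1 : (φ.lTensor K) (ιA.rTensor M z) = (φ.lTensor K) (ιA.rTensor M z') := by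
    rw [← LinearMap.comp_apply, ← LinearMap.comp_apply, LinearMap.lTensor_comp_rTensor,
      ← LinearMap.rTensor_comp_lTensor, LinearMap.comp_apply, LinearMap.comp_apply, hz]
  have h2 := h h1
  have h3 := congrArg (πA.rTensor M) h2
  rwa [← LinearMap.comp_apply, ← LinearMap.comp_apply, ← LinearMap.rTensor_comp, hπι,
    LinearMap.rTensor_id, LinearMap.id_apply, LinearMap.id_apply] at h3

variable [Module.Finite A M]

/-- **local splitting**: a map from a finite module to a finite free module which is injective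
after base change to a field `K` has a retraction up to an element not vanishing in `K`. -/
theorem exists_retraction_away (n : ℕ) (φ : M →ₗ[A] (Fin n → A)) {K : Type u} [Field K]
    [Algebra A K] (h : Function.Injective (φ.lTensor K)) :
    ∃ g : A, algebraMap A K g ≠ 0 ∧ ∃ ρ : (Fin n → A) →ₗ[A] M, ∀ m, ρ (φ m) = g • m := by
  classical
  let 𝔭 : Ideal A := RingHom.ker (algebraMap A K)
  haveI h𝔭 : 𝔭.IsPrime := RingHom.ker_isPrime _
  let R := Localization.AtPrime 𝔭
  have hunit : ∀ s : 𝔭.primeCompl, IsUnit (algebraMap A K s) := fun s =>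
    isUnit_iff_ne_zero.mpr (fun h0 => s.2 (RingHom.mem_ker.mpr h0))
  let ψ : R →+* K := IsLocalization.lift hunit
  have hψ : ∀ a : A, ψ (algebraMap A R a) = algebraMap A K a := fun a =>
    IsLocalization.lift_eq hunit a
  haveI hloc : IsLocalHom ψ := by
    constructor
    intro a ha
    obtain ⟨⟨x, s⟩, hxs⟩ := IsLocalization.surj 𝔭.primeCompl a
    have hx : x ∉ 𝔭 := by
      intro hx
      have h1 : ψ (a * algebraMap A R s) = ψ (algebraMap A R x) := congrArg ψ hxs
      rw [map_mul, hψ, hψ, RingHom.mem_ker.mp hx] at h1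
      exact (mul_ne_zero ha.ne_zero (hunit s).ne_zero) h1
    have hxu : IsUnit (algebraMap A R x) :=
      IsLocalization.map_units R (⟨x, hx⟩ : 𝔭.primeCompl)
    rw [← hxs] at hxu
    exact isUnit_of_mul_isUnit_left hxu
  let k := IsLocalRing.ResidueField R
  let χ : k →+* K := IsLocalRing.ResidueField.lift ψ
  letI algkK : Algebra k K := χ.toAlgebra
  haveI : IsScalarTower A k K := IsScalarTower.of_algebraMap_eq (fun a => by
    show algebraMap A K a = χ (algebraMap A k a)
    rw [IsScalarTower.algebraMap_apply A R k, IsLocalRing.ResidueField.algebraMap_eq,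
      IsLocalRing.ResidueField.lift_residue_apply, hψ])
  -- Step A: injectivity over the residue field
  have hk : Function.Injective (φ.lTensor k) := lTensor_injective_of_field_ext φ k K h
  -- Step B: the localized map
  let l : R ⊗[A] M →ₗ[R] R ⊗[A] (Fin n → A) := φ.baseChange R
  let eM : k ⊗[R] (R ⊗[A] M) ≃ₗ[k] k ⊗[A] M :=
    TensorProduct.AlgebraTensorModule.cancelBaseChange A R k k M
  let eN : k ⊗[R] (R ⊗[A] (Fin n → A)) ≃ₗ[k] k ⊗[A] (Fin n → A) :=
    TensorProduct.AlgebraTensorModule.cancelBaseChange A R k k (Fin n → A)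
  have hcomm : ∀ z : k ⊗[R] (R ⊗[A] M), eN ((l.lTensor k) z) = (φ.lTensor k) (eM z) := by
    intro z
    induction z using TensorProduct.induction_on with
    | zero => simp only [map_zero]
    | tmul c y =>
      induction y using TensorProduct.induction_on with
      | zero => simp only [TensorProduct.tmul_zero, map_zero]
      | tmul r m =>
        rw [LinearMap.lTensor_tmul]
        show eN (c ⊗ₜ[R] (φ.baseChange R) (r ⊗ₜ[A] m)) = _
        rw [LinearMap.baseChange_tmul]
        show TensorProduct.AlgebraTensorModule.cancelBaseChange A R k k (Fin n → A)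
            (c ⊗ₜ[R] (r ⊗ₜ[A] φ m)) =
          (φ.lTensor k) (TensorProduct.AlgebraTensorModule.cancelBaseChange A R k k M
            (c ⊗ₜ[R] (r ⊗ₜ[A] m)))
        rw [TensorProduct.AlgebraTensorModule.cancelBaseChange_tmul,
          TensorProduct.AlgebraTensorModule.cancelBaseChange_tmul, LinearMap.lTensor_tmul]
      | add y y' hy hy' =>
        rw [TensorProduct.tmul_add, map_add, map_add, map_add, map_add, hy, hy']
    | add z z' hz hz' => rw [map_add, map_add, map_add, map_add, hz, hz']
  have hl : Function.Injective (l.lTensor k) := by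
    intro z z' hzz
    have h1 : (φ.lTensor k) (eM z) = (φ.lTensor k) (eM z') := by
      rw [← hcomm, ← hcomm, hzz]
    exact eM.injective (hk h1)
  obtain ⟨l', hl'⟩ :=
    (IsLocalRing.split_injective_iff_lTensor_residueField_injective l).mpr hl
  -- descent to an element of `A`
  let S := 𝔭.primeCompl
  let fM : M →ₗ[A] R ⊗[A] M := TensorProduct.mk A R M 1
  haveI : IsLocalizedModule S fM :=
    (isLocalizedModule_iff_isBaseChange S R fM).mpr (TensorProduct.isBaseChange A M R)
  let fP : (Fin n → A) →ₗ[A] R ⊗[A] (Fin n → A) := TensorProduct.mk A R (Fin n → A) 1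
  let g' : (Fin n → A) →ₗ[A] R ⊗[A] M := (l'.restrictScalars A) ∘ₗ fP
  obtain ⟨ρ₀, s, hρ₀⟩ := Module.FinitePresentation.exists_lift_of_isLocalizedModule S fM g'
  let g₁ : M →ₗ[A] M := ρ₀ ∘ₗ φ
  let g₂ : M →ₗ[A] M := (s : A) • LinearMap.id
  have h12 : fM ∘ₗ g₁ = fM ∘ₗ g₂ := by
    ext m
    show fM (ρ₀ (φ m)) = fM ((s : A) • m)
    have e1 : fM (ρ₀ (φ m)) = (s • g') (φ m) := LinearMap.congr_fun hρ₀ (φ m)
    rw [e1]
    show (s : A) • l' ((1 : R) ⊗ₜ[A] φ m) = fM ((s : A) • m)
    have e2 : (1 : R) ⊗ₜ[A] φ m = l ((1 : R) ⊗ₜ[A] m) := (LinearMap.baseChange_tmul φ 1 m).symm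
    rw [e2]
    have e3 : l' (l ((1 : R) ⊗ₜ[A] m)) = (1 : R) ⊗ₜ[A] m := LinearMap.congr_fun hl' _
    rw [e3, map_smul]
    rfl
  obtain ⟨c, hc⟩ := Module.Finite.exists_smul_of_comp_eq_of_isLocalizedModule S fM g₁ g₂ h12
  refine ⟨(c : A) * (s : A), ?_, (c : A) • ρ₀, fun m => ?_⟩
  · rw [map_mul]
    exact mul_ne_zero (hunit c).ne_zero (hunit s).ne_zero
  · have e4 : (c • g₁) m = (c • g₂) m := LinearMap.congr_fun hc m
    show (c : A) • ρ₀ (φ m) = ((c : A) * (s : A)) • m
    rw [mul_smul]
    exact e4

end Alg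

end Groth.Agent.H3.LocSplit
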