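import Groth.Agent.Lib.Helper3.LocSplit.A
import Groth.Agent.Lib.Lead.QC.PullbackUnit
import Groth.Agent.Lib.Lead.QC.FreeData
import Groth.Agent.Lib.Lead.QC.FreeHom
import Groth.Agent.Lib.Lead.QC.FinType
import Groth.Agent.Lib.Lead.QC.Pullback
import Groth.Agent.Lib.Lead.QC.LocFree
import Groth.Agent.Lib.Lead.QC.Coh
import Groth.Agent.Lib.Lead.QC.Gen
import Groth.Agent.Lib.Lead.QC.InvBasis
import Groth.Agent.Lib.Lead.Ann.SmulEnd
import Groth.Agent.Lib.Helper5.Lim.ModuleExt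

/-!
# Locally split monomorphisms into finite locally free modules are detected on fibres
(helper3, for S14618)
-/

set_option autoImplicit false
universe u
open CategoryTheory CategoryTheory.Limits AlgebraicGeometry TopologicalSpace Opposite TensorProduct
open Groth.Agent.LD.QC Groth.Agent.LD.Ann Groth.Agent.H5.Lim

namespace Groth.Agent.H3.LocSplit

section Cat
variable {C : Type*} [Category C] {D : Type*} [Category D]

/-- `φ` has a retraction. -/
def HasRetr {A B : C} (φ : A ⟶ B) : Prop := ∃ r : B ⟶ A, φ ≫ r = 𝟙 A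

lemma HasRetr.map {A B : C} {φ : A ⟶ B} (h : HasRetr φ) (G : C ⥤ D) : HasRetr (G.map φ) := by
  obtain ⟨r, hr⟩ := h
  exact ⟨G.map r, by rw [← G.map_comp, hr, G.map_id]⟩

lemma HasRetr.mono {A B : C} {φ : A ⟶ B} (h : HasRetr φ) : Mono φ := by
  obtain ⟨r, hr⟩ := h
  exact mono_of_mono_fac hr

lemma hasRetr_of_natIso {G₁ G₂ : C ⥤ D} (α : G₁ ≅ G₂) {A B : C} (φ : A ⟶ B)
    (h : HasRetr (G₁.map φ)) : HasRetr (G₂.map φ) := by
  obtain ⟨r, hr⟩ := h
  refine ⟨α.inv.app B ≫ r ≫ α.hom.app A, ?_⟩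
  calc G₂.map φ ≫ α.inv.app B ≫ r ≫ α.hom.app A
      = α.inv.app A ≫ (G₁.map φ ≫ r) ≫ α.hom.app A := by
        simp only [Category.assoc, NatTrans.naturality_assoc]
    _ = 𝟙 _ := by rw [hr, Category.id_comp, Iso.inv_hom_id_app]

lemma hasRetr_natIso_iff {G₁ G₂ : C ⥤ D} (α : G₁ ≅ G₂) {A B : C} (φ : A ⟶ B) :
    HasRetr (G₁.map φ) ↔ HasRetr (G₂.map φ) :=
  ⟨hasRetr_of_natIso α φ, hasRetr_of_natIso α.symm φ⟩

lemma mono_of_natIso {G₁ G₂ : C ⥤ D} (α : G₁ ≅ G₂) {A B : C} (φ : A ⟶ B)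
    [Mono (G₁.map φ)] : Mono (G₂.map φ) := by
  have h : G₂.map φ = α.inv.app A ≫ G₁.map φ ≫ α.hom.app B := by
    rw [α.hom.naturality, Iso.inv_hom_id_app_assoc]
  rw [h]
  infer_instance

end Cat

section Pull
variable {X : Scheme.{u}} {F V : X.Modules} (u : F ⟶ V)

lemma hasRetr_pullback_comp_iff {Z' Z : Scheme.{u}} (a : Z' ⟶ Z) (g : Z ⟶ X) :
    HasRetr ((Scheme.Modules.pullback a).map ((Scheme.Modules.pullback g).map u)) ↔
      HasRetr ((Scheme.Modules.pullback (a ≫ g)).map u) :=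
  hasRetr_natIso_iff (Scheme.Modules.pullbackComp a g) u

lemma hasRetr_of_fac {Z' U' : Scheme.{u}} (b : Z' ⟶ U') (c : U' ⟶ X) (k : Z' ⟶ X)
    (h : b ≫ c = k) (hc : HasRetr ((Scheme.Modules.pullback c).map u)) :
    HasRetr ((Scheme.Modules.pullback k).map u) := by
  subst h
  exact (hasRetr_pullback_comp_iff u b c).mp (hc.map (Scheme.Modules.pullback b))

lemma mono_pullback_comp {Z' Z : Scheme.{u}} (a : Z' ⟶ Z) (g : Z ⟶ X)
    [Mono ((Scheme.Modules.pullback (a ≫ g)).map u)] :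
    Mono ((Scheme.Modules.pullback a).map ((Scheme.Modules.pullback g).map u)) :=
  mono_of_natIso (Scheme.Modules.pullbackComp a g).symm u

/-- locally split monomorphisms. -/
def LSM : Prop :=
  ∀ x : X, ∃ U : X.Opens, x ∈ U ∧ HasRetr ((Scheme.Modules.pullback U.ι).map u)

lemma LSM.pullback (h : LSM u) {Z : Scheme.{u}} (g : Z ⟶ X) :
    LSM ((Scheme.Modules.pullback g).map u) := by
  intro z
  obtain ⟨U, hxU, hr⟩ := h (g z)
  refine ⟨g ⁻¹ᵁ U, hxU, ?_⟩
  rw [hasRetr_pullback_comp_iff]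
  exact hasRetr_of_fac u (g ∣_ U) U.ι _ (morphismRestrict_ι g U) hr

lemma mono_of_hasRetr_nhds {Z : Scheme.{u}} (g : Z ⟶ X) (z : Z) (U : Z.Opens) (hz : z ∈ U)
    (hr : HasRetr ((Scheme.Modules.pullback U.ι).map ((Scheme.Modules.pullback g).map u))) :
    Mono ((Scheme.Modules.pullback (Z.fromSpecResidueField z ≫ g)).map u) := by
  have hrange : Set.range (Z.fromSpecResidueField z) ⊆ Set.range U.ι := by
    rintro _ ⟨p, rfl⟩
    rw [Scheme.fromSpecResidueField_apply, Scheme.Opens.range_ι]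
    exact hz
  have h1 : HasRetr ((Scheme.Modules.pullback (Z.fromSpecResidueField z)).map
      ((Scheme.Modules.pullback g).map u)) :=
    hasRetr_of_fac _ (IsOpenImmersion.lift U.ι _ hrange) U.ι _
      (IsOpenImmersion.lift_fac _ _ _) hr
  exact ((hasRetr_pullback_comp_iff u _ g).mp h1).mono

end Pull

end Groth.Agent.H3.LocSplit
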