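import Groth.Agent.Lib.Helper3.LocSplit.B

/-!
# The affine core: fibrewise monomorphisms into free modules split near the fibre
(helper3, for S14618)
-/

set_option autoImplicit false
universe u
open CategoryTheory CategoryTheory.Limits AlgebraicGeometry TopologicalSpace Opposite TensorProduct
open Groth.Agent.LD.QC Groth.Agent.LD.Ann Groth.Agent.H5.Lim

namespace Groth.Agent.H3.LocSplit

theorem isUnit_of_basicOpen_eq {Z : Scheme.{u}} {U : Z.Opens} (f : Γ(Z, U))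
    (h : Z.basicOpen f = U) : IsUnit f := by
  apply Z.toRingedSpace.isUnit_of_isUnit_germ U f
  intro x hx
  exact (Z.mem_basicOpen f x hx).mp (by rw [h]; exact hx)

theorem exists_retraction_away' {A : Type u} [CommRing A] {M : Type u} [AddCommGroup M]
    [Module A M] [Module.Finite A M] (n : ℕ) (φ : M →ₗ[A] (Fin n → A)) {K : Type u} [CommRing K]
    (hK : IsField K) [Algebra A K] (h : Function.Injective (φ.lTensor K)) :
    ∃ g : A, algebraMap A K g ≠ 0 ∧ ∃ ρ : (Fin n → A) →ₗ[A] M, ∀ m, ρ (φ m) = g • m := by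
  letI := hK.toField
  exact exists_retraction_away n φ h

/-- **the affine core**. -/
theorem core {Y : Scheme.{u}} (hA : IsAffineOpen (⊤ : Y.Opens)) {F V : Y.Modules}
    [F.IsQuasicoherent] [V.IsQuasicoherent] (hFt : F.IsFiniteType) {n : ℕ} (D : FreeData V n)
    (u : F ⟶ V) {T : Scheme.{u}} (hT : IsAffineOpen (⊤ : T.Opens)) (hK : IsField Γ(T, ⊤))
    (t : T ⟶ Y) [Mono ((Scheme.Modules.pullback t).map u)] :
    ∃ g : Γ(Y, ⊤), (∀ p : T, t p ∈ Y.basicOpen g) ∧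
      HasRetr ((Scheme.Modules.pullback (Y.basicOpen g).ι).map u) := by
  haveI : Module.Finite Γ(Y, ⊤) Γ(F, ⊤) := finite_sections_of_isFiniteType F hFt hA
  -- coordinates on `V`
  obtain ⟨ℓ, hℓdef⟩ : ∃ ℓ : Γ(V, ⊤) →ₗ[Γ(Y, ⊤)] (Fin n → Γ(Y, ⊤)),
      ∀ v j, ℓ v j = (D.π j).app ⊤ v :=
    ⟨{ toFun := fun v j => (D.π j).app ⊤ v
       map_add' := fun a b => by
        funext j
        show (D.π j).app ⊤ (a + b) = (D.π j).app ⊤ a + (D.π j).app ⊤ b
        rw [map_add]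
       map_smul' := fun c a => by
        funext j
        show (D.π j).app ⊤ (c • a) = c • (D.π j).app ⊤ a
        rw [Scheme.Modules.Hom.app_smul] }, fun _ _ => rfl⟩
  obtain ⟨ℓ', hℓ'def⟩ : ∃ ℓ' : (Fin n → Γ(Y, ⊤)) →ₗ[Γ(Y, ⊤)] Γ(V, ⊤),
      ∀ a, ℓ' a = ∑ i, a i • (D.ι i).app ⊤ (1 : Γ(Y, ⊤)) :=
    ⟨Fintype.linearCombination Γ(Y, ⊤) (fun i => (D.ι i).app ⊤ (1 : Γ(Y, ⊤))), fun _ => rfl⟩
  have hℓ : ∀ v : Γ(V, ⊤), ℓ' (ℓ v) = v := by
    intro v
    have h1 : v = (∑ i, D.π i ≫ D.ι i).app ⊤ v := by rw [D.total]; rfl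
    conv_rhs => rw [h1, finset_sum_app]
    rw [hℓ'def]
    refine Finset.sum_congr rfl (fun i _ => ?_)
    rw [Scheme.Modules.Hom.comp_app, ConcreteCategory.comp_apply, hℓdef]
    exact (unitHom_app V (D.ι i) ⊤ _).symm
  obtain ⟨φ, hφ⟩ : ∃ φ : Γ(F, ⊤) →ₗ[Γ(Y, ⊤)] (Fin n → Γ(Y, ⊤)), ∀ m, φ m = ℓ (u.app ⊤ m) :=
    ⟨ℓ ∘ₗ appLinear u ⊤, fun _ => rfl⟩
  -- the base change to `T`
  have e0 : (⊤ : T.Opens) ≤ t ⁻¹ᵁ (⊤ : Y.Opens) := fun _ _ => trivial
  letI : Algebra Γ(Y, ⊤) Γ(T, ⊤) := (t.appLE ⊤ ⊤ e0).hom.toAlgebra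
  letI : Module Γ(Y, ⊤) Γ((Scheme.Modules.pullback t).obj F, ⊤) := pbModule t F e0
  letI : Module Γ(Y, ⊤) Γ((Scheme.Modules.pullback t).obj V, ⊤) := pbModule t V e0
  haveI : IsScalarTower Γ(Y, ⊤) Γ(T, ⊤) Γ((Scheme.Modules.pullback t).obj F, ⊤) :=
    pbModule_isScalarTower t F e0
  haveI : IsScalarTower Γ(Y, ⊤) Γ(T, ⊤) Γ((Scheme.Modules.pullback t).obj V, ⊤) :=
    pbModule_isScalarTower t V e0
  have hbF : IsBaseChange Γ(T, ⊤) (pbSecₗ t F e0) := isBaseChange_pbSec t hT hA e0 F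
  have hbV : IsBaseChange Γ(T, ⊤) (pbSecₗ t V e0) := isBaseChange_pbSec t hT hA e0 V
  have hcomm : ∀ z : Γ(T, ⊤) ⊗[Γ(Y, ⊤)] Γ(F, ⊤),
      ((Scheme.Modules.pullback t).map u).app ⊤ (hbF.equiv z) =
        hbV.equiv ((appLinear u ⊤).lTensor Γ(T, ⊤) z) := by
    intro z
    induction z using TensorProduct.induction_on with
    | zero => simp only [map_zero]
    | tmul k m =>
      rw [LinearMap.lTensor_tmul, IsBaseChange.equiv_tmul, IsBaseChange.equiv_tmul,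
        Scheme.Modules.Hom.app_smul]
      congr 1
      exact pbSec_naturality t u e0 m
    | add a b ha hb => rw [map_add, map_add, map_add, map_add, ha, hb]
  have hinj0 : Function.Injective ((appLinear u ⊤).lTensor Γ(T, ⊤)) := by
    intro z z' hz
    apply hbF.equiv.injective
    apply mono_app ((Scheme.Modules.pullback t).map u) ⊤
    rw [hcomm, hcomm, hz]
  have hinj : Function.Injective (φ.lTensor Γ(T, ⊤)) := by
    have hcomp : (ℓ'.lTensor Γ(T, ⊤)) ∘ₗ (φ.lTensor Γ(T, ⊤)) =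
        (appLinear u ⊤).lTensor Γ(T, ⊤) := by
      rw [← LinearMap.lTensor_comp]
      congr 1
      ext m
      rw [LinearMap.comp_apply, hφ, hℓ]
      rfl
    intro z z' hz
    apply hinj0
    rw [← hcomp, LinearMap.comp_apply, LinearMap.comp_apply, hz]
  obtain ⟨g, hg, ρ, hρ⟩ := exists_retraction_away' n φ hK hinj
  have hg' : (t.appLE ⊤ ⊤ e0) g ≠ 0 := hg
  obtain ⟨σ, hσ⟩ : ∃ σ : Fin n → Γ(F, ⊤), ∀ i, σ i = ρ (fun j => if i = j then 1 else 0) :=
    ⟨_, fun _ => rfl⟩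
  obtain ⟨r₀, hr₀def⟩ : ∃ r₀ : V ⟶ F, r₀ = ∑ i, D.π i ≫ homOfSection F (σ i) := ⟨_, rfl⟩
  have hr₀ : ∀ m : Γ(F, ⊤), r₀.app ⊤ (u.app ⊤ m) = g • m := by
    intro m
    rw [← hρ m, LinearMap.pi_apply_eq_sum_univ ρ (φ m), hr₀def, finset_sum_app]
    refine Finset.sum_congr rfl (fun i _ => ?_)
    rw [Scheme.Modules.Hom.comp_app, ConcreteCategory.comp_apply, ← hσ]
    refine (unitHom_app F (homOfSection F (σ i)) ⊤ _).trans ?_
    congr 1
    · rw [hφ, hℓdef]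
    · exact sectionOfHom_homOfSection F (σ i)
  refine ⟨g, ?_, ?_⟩
  · intro p
    obtain ⟨b, hb⟩ := hK.mul_inv_cancel hg'
    have h1 : IsUnit ((t.appLE ⊤ ⊤ e0) g) := IsUnit.of_mul_eq_one b hb
    have h2 : T.basicOpen ((t.appLE ⊤ ⊤ e0) g) = ⊤ := Scheme.basicOpen_of_isUnit _ h1
    rw [Scheme.basicOpen_appLE] at h2
    have h3 : p ∈ (⊤ : T.Opens) ⊓ t ⁻¹ᵁ Y.basicOpen g := by rw [h2]; trivial
    exact h3.2
  · have hB : IsAffineOpen (Y.basicOpen g) := hA.basicOpen g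
    haveI : IsAffine (Y.basicOpen g).toScheme := hB
    have hBtop : IsAffineOpen (⊤ : (Y.basicOpen g).toScheme.Opens) := isAffineOpen_top _
    have e1 : (⊤ : (Y.basicOpen g).toScheme.Opens) ≤ (Y.basicOpen g).ι ⁻¹ᵁ (⊤ : Y.Opens) :=
      fun _ _ => trivial
    have hu : IsUnit (((Y.basicOpen g).ι.appLE ⊤ ⊤ e1) g) := by
      apply isUnit_of_basicOpen_eq
      rw [Scheme.basicOpen_appLE, Scheme.Opens.ι_preimage_self, inf_top_eq]
    obtain ⟨v, hv⟩ := hu.exists_left_inv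
    refine ⟨(Scheme.Modules.pullback (Y.basicOpen g).ι).map r₀ ≫ smulEnd _ v, ?_⟩
    haveI : ((Scheme.Modules.pullback (Y.basicOpen g).ι).obj F).IsQuasicoherent :=
      qc_pullback (Y.basicOpen g).ι F
    refine hom_ext_of_affine_cover _ _ (fun _ : Unit => (⊤ : (Y.basicOpen g).toScheme.Opens))
      (fun _ => hBtop) (fun x hx => Opens.mem_iSup.2 ⟨(), hx⟩) (fun _ x => ?_)
    refine app_eq_of_forall_pbSec_eq (Y.basicOpen g).ι hBtop hA e1 F _ _ Set.univ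
      Submodule.span_univ (fun m _ => ?_) x
    have hres : ∀ w : Γ((Y.basicOpen g).toScheme, ⊤),
        ((Y.basicOpen g).toScheme.presheaf.map
          (homOfLE (le_top : (⊤ : (Y.basicOpen g).toScheme.Opens) ≤ ⊤)).op) w = w := by
      intro w
      have h0 : (homOfLE (le_top : (⊤ : (Y.basicOpen g).toScheme.Opens) ≤ ⊤)).op = 𝟙 _ := rfl
      rw [h0, CategoryTheory.Functor.map_id]
      rfl
    calc ((Scheme.Modules.pullback (Y.basicOpen g).ι).map u ≫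
            (Scheme.Modules.pullback (Y.basicOpen g).ι).map r₀ ≫ smulEnd _ v).app ⊤
            (pbSec (Y.basicOpen g).ι F e1 m)
        = (smulEnd _ v).app ⊤ (((Scheme.Modules.pullback (Y.basicOpen g).ι).map r₀).app ⊤
            (((Scheme.Modules.pullback (Y.basicOpen g).ι).map u).app ⊤
              (pbSec (Y.basicOpen g).ι F e1 m))) := rfl
      _ = (smulEnd _ v).app ⊤ (pbSec (Y.basicOpen g).ι F e1 (g • m)) := by
          rw [pbSec_naturality, pbSec_naturality, hr₀]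
      _ = v • ((((Y.basicOpen g).ι.appLE ⊤ ⊤ e1) g) • pbSec (Y.basicOpen g).ι F e1 m) := by
          rw [smulEnd_app, hres, pbSec_smul]
      _ = pbSec (Y.basicOpen g).ι F e1 m := by
          rw [smul_smul, hv, one_smul]
      _ = _ := rfl

end Groth.Agent.H3.LocSplit
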