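import Groth.Agent.Lib.Helper3.LocSplit.C
import Groth.Agent.Lib.Lead.QC.LocFree2

/-!
# Locally split monomorphisms are detected on (geometric) fibres (helper3, for S14618)
-/

set_option autoImplicit false
universe u
open CategoryTheory CategoryTheory.Limits AlgebraicGeometry TopologicalSpace Opposite TensorProduct
open Groth.Agent.LD.QC Groth.Agent.LD.Ann Groth.Agent.H5.Lim

namespace Groth.Agent.H3.LocSplit

/-- a morphism into a finite locally free module which is a monomorphism after pullback to the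
spectrum of a field has a retraction near the image point. -/
theorem exists_nhds_hasRetr {X : Scheme.{u}} {F V : X.Modules} (u : F ⟶ V) [F.IsQuasicoherent]
    (hFt : F.IsFiniteType) (hV : FlatMod.IsFinLocFree V) (R : CommRingCat.{u}) (hR : IsField R)
    (t : Spec R ⟶ X) (pt : Spec R) [Mono ((Scheme.Modules.pullback t).map u)] :
    ∃ U : X.Opens, t pt ∈ U ∧ HasRetr ((Scheme.Modules.pullback U.ι).map u) := by
  haveI : V.IsQuasicoherent := qc_of_isFinLocFree V hV
  obtain ⟨U₀, n, hx0, ⟨e0⟩⟩ := hV (t pt)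
  obtain ⟨W, hW, hxW, hWU⟩ := exists_isAffineOpen_mem_and_subset hx0
  obtain ⟨eW⟩ := freeMod_of_range_subset V U₀.ι W.ι (by
    rw [Scheme.Opens.range_ι, Scheme.Opens.range_ι]; exact hWU) n e0
  haveI : IsAffine W.toScheme := hW
  have hWtop : IsAffineOpen (⊤ : W.toScheme.Opens) := isAffineOpen_top _
  have D : FreeData ((Scheme.Modules.pullback W.ι).obj V) n :=
    (FreeData.free W.toScheme n).ofIso
      (eW.symm ≪≫ (Scheme.Modules.restrictFunctorIsoPullback W.ι).app V)
  haveI : Subsingleton (PrimeSpectrum R) := by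
    letI := hR.toField
    infer_instance
  have hrange : Set.range t ⊆ Set.range W.ι := by
    rintro _ ⟨p, rfl⟩
    rw [Scheme.Opens.range_ι]
    have hp : p = pt := Subsingleton.elim (α := PrimeSpectrum R) p pt
    rw [hp]
    exact hxW
  have hfac : IsOpenImmersion.lift W.ι t hrange ≫ W.ι = t := IsOpenImmersion.lift_fac _ _ _
  haveI : Mono ((Scheme.Modules.pullback (IsOpenImmersion.lift W.ι t hrange ≫ W.ι)).map u) := by
    rw [hfac]; infer_instance
  haveI : Mono ((Scheme.Modules.pullback (IsOpenImmersion.lift W.ι t hrange)).map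
      ((Scheme.Modules.pullback W.ι).map u)) := mono_pullback_comp u _ _
  haveI : ((Scheme.Modules.pullback W.ι).obj F).IsQuasicoherent := qc_pullback W.ι F
  haveI : ((Scheme.Modules.pullback W.ι).obj V).IsQuasicoherent := qc_pullback W.ι V
  have hT : IsAffineOpen (⊤ : (Spec R).Opens) := isAffineOpen_top _
  have hK : IsField Γ(Spec R, ⊤) :=
    MulEquiv.isField hR (Scheme.ΓSpecIso R).commRingCatIsoToRingEquiv.toMulEquiv
  obtain ⟨g, hpt, hr⟩ := core hWtop (isFiniteType_pullback W.ι F hFt) D
    ((Scheme.Modules.pullback W.ι).map u) hT hK (IsOpenImmersion.lift W.ι t hrange)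
  refine ⟨W.ι ''ᵁ (W.toScheme.basicOpen g), ?_, ?_⟩
  · refine ⟨IsOpenImmersion.lift W.ι t hrange pt, hpt pt, ?_⟩
    have h5 : (IsOpenImmersion.lift W.ι t hrange ≫ W.ι) pt = t pt := by rw [hfac]
    rw [Scheme.Hom.comp_apply] at h5
    exact h5
  · exact hasRetr_of_fac u (W.ι.isoImage (W.toScheme.basicOpen g)).inv
      ((W.toScheme.basicOpen g).ι ≫ W.ι) _ (W.ι.isoImage_inv_ι _)
      ((hasRetr_pullback_comp_iff u _ _).mp hr)

/-- **S14618**. -/
theorem main14618 {X S : Scheme.{u}} (f : X ⟶ S) {F V : X.Modules} (u : F ⟶ V)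
    (hF : Coh.IsQCoh F) (hFt : CohB1.IsFT F) (hV : FlatMod.IsFinLocFree V) :
    [ ∀ x : X, ∃ U : X.Opens, x ∈ U ∧
        ∃ r : (Scheme.Modules.pullback U.ι).obj V ⟶ (Scheme.Modules.pullback U.ι).obj F,
          (Scheme.Modules.pullback U.ι).map u ≫ r = 𝟙 _,
      ∀ (s : S) (x : f.fiber s), ∃ U : (f.fiber s).Opens, x ∈ U ∧
        ∃ r : (Scheme.Modules.pullback U.ι).obj ((Scheme.Modules.pullback (f.fiberι s)).obj V) ⟶
            (Scheme.Modules.pullback U.ι).obj ((Scheme.Modules.pullback (f.fiberι s)).obj F),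
          (Scheme.Modules.pullback U.ι).map ((Scheme.Modules.pullback (f.fiberι s)).map u) ≫ r = 𝟙 _,
      ∀ (s : S) (x : ↑(pullback f (Spec.map (CommRingCat.ofHom (algebraMap (S.residueField s)
            (AlgebraicClosure (S.residueField s)))) ≫ S.fromSpecResidueField s))),
        ∃ U : Scheme.Opens _, x ∈ U ∧
        ∃ r : (Scheme.Modules.pullback U.ι).obj ((Scheme.Modules.pullback (pullback.fst f
              (Spec.map (CommRingCat.ofHom (algebraMap (S.residueField s) (AlgebraicClosure (S.residueField s)))) ≫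
                S.fromSpecResidueField s))).obj V) ⟶
            (Scheme.Modules.pullback U.ι).obj ((Scheme.Modules.pullback (pullback.fst f
              (Spec.map (CommRingCat.ofHom (algebraMap (S.residueField s) (AlgebraicClosure (S.residueField s)))) ≫
                S.fromSpecResidueField s))).obj F),
          (Scheme.Modules.pullback U.ι).map ((Scheme.Modules.pullback (pullback.fst f
              (Spec.map (CommRingCat.ofHom (algebraMap (S.residueField s) (AlgebraicClosure (S.residueField s)))) ≫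
                S.fromSpecResidueField s))).map u) ≫ r = 𝟙 _ ].TFAE := by
  haveI : F.IsQuasicoherent := hF
  have key : ∀ {Z : Scheme.{u}} (g : Z ⟶ X), LSM ((Scheme.Modules.pullback g).map u) →
      ∀ z : Z, ∃ U : X.Opens, g z ∈ U ∧ HasRetr ((Scheme.Modules.pullback U.ι).map u) := by
    intro Z g h z
    obtain ⟨U', hzU', hr⟩ := h z
    haveI := mono_of_hasRetr_nhds u g z U' hzU' hr
    obtain ⟨U, hU, hr'⟩ := exists_nhds_hasRetr u hFt hV (Z.residueField z) (Field.toIsField _)
      (Z.fromSpecResidueField z ≫ g) default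
    refine ⟨U, ?_, hr'⟩
    rwa [Scheme.Hom.comp_apply, Scheme.fromSpecResidueField_apply] at hU
  tfae_have 1 → 2 := fun h s => LSM.pullback u h (f.fiberι s)
  tfae_have 1 → 3 := fun h s => LSM.pullback u h (pullback.fst _ _)
  tfae_have 2 → 1 := by
    intro h x
    obtain ⟨x', hx'⟩ : x ∈ Set.range (f.fiberι (f x)) := by
      rw [f.range_fiberι]; rfl
    obtain ⟨U, hU, hr⟩ := key (f.fiberι (f x)) (h (f x)) x'
    exact ⟨U, hx' ▸ hU, hr⟩
  tfae_have 3 → 1 := by
    intro h x
    obtain ⟨x', hx'⟩ : x ∈ Set.range (pullback.fst f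
        (Spec.map (CommRingCat.ofHom (algebraMap (S.residueField (f x))
          (AlgebraicClosure (S.residueField (f x))))) ≫ S.fromSpecResidueField (f x))) := by
      rw [Scheme.Pullback.range_fst]
      refine ⟨IsLocalRing.closedPoint _, ?_⟩
      rw [Scheme.Hom.comp_apply, Scheme.fromSpecResidueField_apply]
    obtain ⟨U, hU, hr⟩ := key _ (h (f x)) x'
    exact ⟨U, hx' ▸ hU, hr⟩
  tfae_finish

end Groth.Agent.H3.LocSplit
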